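import Groth.Prelude.Def_Coh
import Groth.Prelude.Def_Twist2
import Groth.Prelude.Def_DCoh4
import Groth.Agent.Fga.KoszulShift
import Groth.Agent.Fga.TwistGr
import Groth.Agent.Cohder.RDLES
import Groth.Agent.Sga67.TwistOver

/-!
# The relative Castelnuovo lemma on `P^n_Y`

* `isZero_RpushAb₃`, `isZero_RpushAb_of_isZero`, ...: the vanishing of `R^q f_*` along short exact sequences.
* `isIso_restrict_pullback`: the pullback of a morphism which is invertible on `U` is invertible on `f ⁻¹ U`.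
* `mulOver`: multiplication by the variable `X_i`, `O(a) ⟶ O(a+1)` on `P^n_Y`.
* `castelnuovo_rel`: for ANY module `F` on `P^n_Y`: if `R^{q+s} p_* (F(c-1-s)) = 0` for all `s ≥ 0`,
  then `R^q p_* (F(c)) = 0`.
* `Reg`: `R^i p_*(F(-i)) = 0` for `i ≥ 1`;  `isZero_of_reg`: then `R^i p_*(F(m-i)) = 0` for all `m ≥ 0`, `i ≥ 1`.
-/

set_option autoImplicit false
universe u

open CategoryTheory CategoryTheory.Limits AlgebraicGeometry Opposite TopologicalSpace

namespace Groth.Agent.Krr.H455.RelCast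

section Additive

universe v₁ v₂ u₁ u₂

/-- Right derived functors are additive. -/
theorem additive_rightDerived {A : Type u₁} {B : Type u₂} [Category.{v₁} A] [Category.{v₂} B] [Abelian A]
    [Abelian B] [HasInjectiveResolutions A] (F : A ⥤ B) [F.Additive] (n : ℕ) : (F.rightDerived n).Additive where
  map_add {X Y f g} := by
    let I := injectiveResolution X
    let J := injectiveResolution Y
    let φ : I.cocomplex ⟶ J.cocomplex := InjectiveResolution.desc f _ _
    let ψ : I.cocomplex ⟶ J.cocomplex := InjectiveResolution.desc g _ _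
    have hφ : I.ι ≫ φ = (CochainComplex.single₀ A).map f ≫ J.ι := InjectiveResolution.desc_commutes _ _ _
    have hψ : I.ι ≫ ψ = (CochainComplex.single₀ A).map g ≫ J.ι := InjectiveResolution.desc_commutes _ _ _
    rw [F.rightDerived_map_eq n f φ hφ, F.rightDerived_map_eq n g ψ hψ,
      F.rightDerived_map_eq n (f + g) (φ + ψ) (by
        rw [Preadditive.comp_add, hφ, hψ, Functor.map_add, Preadditive.add_comp])]
    rw [← Preadditive.comp_add, ← Preadditive.add_comp, Functor.map_add]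

end Additive

section General

variable {X Y : Scheme.{u}}

local instance additive_RpushAb (f : X ⟶ Y) (q : ℕ) : (Coh.RpushAb f q).Additive :=
  additive_rightDerived (Coh.pushAb f) q

/-- `R^q f_*` of the underlying abelian sheaf, as a functor on modules. -/
noncomputable abbrev RF (f : X ⟶ Y) (q : ℕ) :
    X.Modules ⥤ Sheaf (Opens.grothendieckTopology Y) AddCommGrpCat.{u} :=
  Groth.Agent.Fga.HShift.shAb X ⋙ Coh.RpushAb f q

/-- The vanishing of `R^q f_*`. -/
def Van (f : X ⟶ Y) (q : ℕ) (M : X.Modules) : Prop := IsZero ((Coh.RpushAb f q).obj (Coh.toAb M))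

theorem van_iff (f : X ⟶ Y) (q : ℕ) (M : X.Modules) :
    Van f q M ↔ IsZero ((Coh.RpushAb f q).obj (Coh.toAb M)) := Iff.rfl

theorem van_of_isZero (f : X ⟶ Y) (q : ℕ) {M : X.Modules} (h : IsZero M) : Van f q M :=
  (Coh.RpushAb f q).map_isZero ((Groth.Agent.Fga.HShift.shAb X).map_isZero h)

theorem van_of_iso (f : X ⟶ Y) (q : ℕ) {M M' : X.Modules} (e : M ≅ M') (h : Van f q M) : Van f q M' :=
  IsZero.of_iso h ((Coh.RpushAb f q).mapIso ((Groth.Agent.Fga.HShift.shAb X).mapIso e.symm))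

theorem van_biprod (f : X ⟶ Y) (q : ℕ) (M M' : X.Modules) (h : Van f q M) (h' : Van f q M') :
    Van f q (M ⊞ M') := by
  have : ((Groth.Agent.Fga.HShift.shAb X) ⋙ Coh.RpushAb f q).Additive := inferInstance
  have := preservesBinaryBiproducts_of_preservesBiproducts ((Groth.Agent.Fga.HShift.shAb X) ⋙ Coh.RpushAb f q)
  have hb := (((Groth.Agent.Fga.HShift.shAb X) ⋙ Coh.RpushAb f q)).mapBiprod M M'
  exact IsZero.of_iso ((biprod_isZero_iff _ _).2 ⟨h, h'⟩) hb

theorem van₃ (f : X ⟶ Y) {T : ShortComplex X.Modules} (hT : T.ShortExact) (q : ℕ)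
    (h2 : Van f q T.X₂) (h1 : Van f (q + 1) T.X₁) : Van f q T.X₃ := by
  have hT' := Groth.Agent.Fga.HShift.map_shortExact hT
  obtain ⟨-, -, δ, hδ⟩ := Groth.Agent.Cohder.RDLES.exists_les (Coh.pushAb f) hT'
  obtain ⟨w₁, w₂, he, -⟩ := hδ q
  exact he.isZero_of_both_zeros (h2.eq_of_src _ _) (h1.eq_of_tgt _ _)

theorem van₂ (f : X ⟶ Y) {T : ShortComplex X.Modules} (hT : T.ShortExact) (q : ℕ)
    (h1 : Van f q T.X₁) (h3 : Van f q T.X₃) : Van f q T.X₂ := by
  have hT' := Groth.Agent.Fga.HShift.map_shortExact hT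
  obtain ⟨-, he, -⟩ := Groth.Agent.Cohder.RDLES.exists_les (Coh.pushAb f) hT'
  have w : ((Coh.pushAb f).rightDerived q).map (T.map (Groth.Agent.Fga.HShift.shAb X)).f ≫
      ((Coh.pushAb f).rightDerived q).map (T.map (Groth.Agent.Fga.HShift.shAb X)).g = 0 := by
    have : ((Coh.pushAb f).rightDerived q).Additive := additive_rightDerived _ q
    rw [← Functor.map_comp, (T.map (Groth.Agent.Fga.HShift.shAb X)).zero]
    exact Functor.map_zero _ _ _
  exact (he q w).isZero_of_both_zeros (h1.eq_of_src _ _) (h3.eq_of_tgt _ _)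

theorem van₁ (f : X ⟶ Y) {T : ShortComplex X.Modules} (hT : T.ShortExact) (q : ℕ)
    (h3 : Van f q T.X₃) (h2 : Van f (q + 1) T.X₂) : Van f (q + 1) T.X₁ := by
  have hT' := Groth.Agent.Fga.HShift.map_shortExact hT
  obtain ⟨-, -, δ, hδ⟩ := Groth.Agent.Cohder.RDLES.exists_les (Coh.pushAb f) hT'
  obtain ⟨w₁, w₂, -, he⟩ := hδ q
  exact he.isZero_of_both_zeros (h3.eq_of_src _ _) (h2.eq_of_tgt _ _)

/-- The restriction of a pullback of a morphism invertible on `U` is invertible. -/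
theorem isIso_restrict_pullback (f : X ⟶ Y) {M N : Y.Modules} (φ : M ⟶ N) (U : Y.Opens)
    (h : IsIso ((Scheme.Modules.restrictFunctor U.ι).map φ)) :
    IsIso ((Scheme.Modules.restrictFunctor (f ⁻¹ᵁ U).ι).map ((Scheme.Modules.pullback f).map φ)) := by
  have h1 : IsIso ((Scheme.Modules.pullback U.ι).map φ) :=
    (NatIso.isIso_map_iff (Scheme.Modules.restrictFunctorIsoPullback U.ι) φ).1 h
  rw [NatIso.isIso_map_iff (Scheme.Modules.restrictFunctorIsoPullback (f ⁻¹ᵁ U).ι)]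
  have hsq : (f ⁻¹ᵁ U).ι ≫ f = (f ∣_ U) ≫ U.ι := (morphismRestrict_ι f U).symm
  have e : Scheme.Modules.pullback f ⋙ Scheme.Modules.pullback (f ⁻¹ᵁ U).ι ≅
      Scheme.Modules.pullback U.ι ⋙ Scheme.Modules.pullback (f ∣_ U) :=
    Scheme.Modules.pullbackComp _ _ ≪≫ Scheme.Modules.pullbackCongr hsq ≪≫
      (Scheme.Modules.pullbackComp _ _).symm
  change IsIso ((Scheme.Modules.pullback f ⋙ Scheme.Modules.pullback (f ⁻¹ᵁ U).ι).map φ)
  rw [NatIso.isIso_map_iff e]
  change IsIso ((Scheme.Modules.pullback (f ∣_ U)).map ((Scheme.Modules.pullback U.ι).map φ))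
  infer_instance

/-- A morphism invertible on `U` is bijective on sections over opens in `U`. -/
theorem app_bijective_of_isIso_restrict {M N : X.Modules} (φ : M ⟶ N) (U : X.Opens)
    (h : IsIso ((Scheme.Modules.restrictFunctor U.ι).map φ)) (V : X.Opens) (hV : V ≤ U) :
    Function.Bijective (φ.app V) := by
  rw [Scheme.Modules.Hom.isIso_iff_isIso_app] at h
  have h1 := h (U.ι ⁻¹ᵁ V)
  rw [ConcreteCategory.isIso_iff_bijective] at h1
  have e : U.ι ''ᵁ (U.ι ⁻¹ᵁ V) = V := by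
    rw [Scheme.Hom.image_preimage_eq_opensRange_inf, Scheme.Opens.opensRange_ι]
    exact inf_eq_right.2 hV
  change Function.Bijective (φ.app (U.ι ''ᵁ (U.ι ⁻¹ᵁ V))) at h1
  rw [e] at h1
  exact h1

end General

section Proj

variable (n : ℕ) (Y : Scheme.{u})

/-- The projection `P^n_Y ⟶ P^n_ℤ`. -/
noncomputable abbrev toZ : CohB1.ProjSpaceOver n Y ⟶ CohB1.ProjSpace n (ULift.{u} ℤ) :=
  pullback.fst (CohB1.ProjSpace.toSpec n (ULift.{u} ℤ)) (specULiftZIsTerminal.from Y)

/-- Multiplication by `X_i`: `O(a) ⟶ O(a+1)` on `P^n_Y`. -/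
noncomputable def mulOver (i : Fin (n + 1)) (a : ℤ) :
    Twist.twistOver n Y a ⟶ Twist.twistOver n Y (a + 1) :=
  (Scheme.Modules.pullback (toZ n Y)).map (Fga.TwistGr.mulVar n (ULift.{u} ℤ) i a)

theorem mulOver_comm (i j : Fin (n + 1)) (a : ℤ) :
    mulOver n Y i a ≫ mulOver n Y j (a + 1) = mulOver n Y j a ≫ mulOver n Y i (a + 1) :=
  ((Scheme.Modules.pullback (toZ n Y)).map_comp _ _).symm.trans
    ((congrArg (Scheme.Modules.pullback (toZ n Y)).map (Fga.TwistGr.mulVar_comm i j a)).trans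
      ((Scheme.Modules.pullback (toZ n Y)).map_comp _ _))

/-- The open `X_i ≠ 0` of `P^n_Y`. -/
noncomputable def dplusOver (i : Fin (n + 1)) : (CohB1.ProjSpaceOver n Y).Opens :=
  toZ n Y ⁻¹ᵁ Fga.TwistGr.dplus n (ULift.{u} ℤ) i

theorem exists_mem_dplusOver (p : CohB1.ProjSpaceOver n Y) : ∃ i, p ∈ dplusOver n Y i :=
  Fga.TwistGr.exists_mem_dplus (n := n) (R := ULift.{u} ℤ) ((toZ n Y).base p)

theorem mulOver_app_bijective (i : Fin (n + 1)) (a : ℤ) (V : (CohB1.ProjSpaceOver n Y).Opens)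
    (hV : V ≤ dplusOver n Y i) : Function.Bijective ((mulOver n Y i a).app V) :=
  app_bijective_of_isIso_restrict _ (dplusOver n Y i)
    (isIso_restrict_pullback (toZ n Y) _ _
      (Fga.TwistGr.isIso_restrict_of_app _ _ fun V hV => Fga.TwistGr.mulVar_app_bijective i a V hV))
    V hV

variable {n Y}

/-- The family `a ↦ F ⊗ O(a)` with its operators `X_i`. -/
noncomputable abbrev grOver (F : (CohB1.ProjSpaceOver n Y).Modules) (a : ℤ) :
    (CohB1.ProjSpaceOver n Y).Modules := CohB1.tensorMod F (Twist.twistOver n Y a)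

/-- The operators `X_i`. -/
noncomputable abbrev grX (F : (CohB1.ProjSpaceOver n Y).Modules) (i : Fin (n + 1)) (a : ℤ) :
    grOver F a ⟶ grOver F (a + 1) := Fga.TwistGr.tmap F (mulOver n Y i a)

theorem grX_comm (F : (CohB1.ProjSpaceOver n Y).Modules) (i j : Fin (n + 1)) (a : ℤ) :
    grX F i a ≫ grX F j (a + 1) = grX F j a ≫ grX F i (a + 1) := by
  unfold grX
  rw [← Fga.TwistGr.tmap_comp, ← Fga.TwistGr.tmap_comp, mulOver_comm]

theorem isIso_stalk_grX (F : (CohB1.ProjSpaceOver n Y).Modules) (i : Fin (n + 1)) (a : ℤ)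
    (p : CohB1.ProjSpaceOver n Y) (hp : p ∈ dplusOver n Y i) :
    IsIso ((CycB.StalkExact.stalkFun p).map (grX F i a)) :=
  Fga.TwistGr.isIso_stalk_of_app _ (dplusOver n Y i)
    (fun V hV => Fga.TwistGr.tmap_app_bijective F _ _
      (fun V hV => mulOver_app_bijective n Y i a V hV) V hV) p hp

/-- `F ⊗ O(a) ≅ O(a) ⊗ F`. -/
noncomputable def swapTw (F : (CohB1.ProjSpaceOver n Y).Modules) (a : ℤ) :
    grOver F a ≅ (Sga67.TwistOver.tw n Y a).obj F :=
  Ega2.Tens.swap F (Twist.twistOver n Y a)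

/-- **The relative Castelnuovo lemma.** -/
theorem castelnuovo_rel {S : Scheme.{u}} (f : CohB1.ProjSpaceOver n Y ⟶ S)
    (F : (CohB1.ProjSpaceOver n Y).Modules) (c : ℤ) (q : ℕ)
    (h : ∀ s : ℕ, Van f (q + s) ((Sga67.TwistOver.tw n Y (c - 1 - s)).obj F)) :
    Van f q ((Sga67.TwistOver.tw n Y c).obj F) := by
  refine van_of_iso f q (swapTw F c) ?_
  refine Fga.KoszulShift.castelnuovo_abstract (fun q M => Van f q M)
    (fun q M hM => van_of_isZero f q hM) (fun T hT q h2 h1 => van₃ f hT q h2 h1)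
    (fun q M M' e hM => van_of_iso f q e hM) (fun q M M' hM hM' => van_biprod f q M M' hM hM')
    (fun p : CohB1.ProjSpaceOver n Y => CycB.StalkExact.stalkFun p) Fga.KoszulShift.isZero_of_stalk
    (grOver F) (grX F) (grX_comm F) (List.finRange (n + 1)) (fun p => ?_) c q
    fun s => van_of_iso f _ (swapTw F _).symm (h s)
  obtain ⟨j, hj⟩ := exists_mem_dplusOver n Y p
  exact ⟨j, List.mem_finRange j, fun a => isIso_stalk_grX F j a p hj⟩

/-- `F` is regular with respect to `f`: `R^i f_*(F(-i)) = 0` for `i ≥ 1`. -/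
def Reg {S : Scheme.{u}} (f : CohB1.ProjSpaceOver n Y ⟶ S) (F : (CohB1.ProjSpaceOver n Y).Modules) : Prop :=
  ∀ i : ℕ, 1 ≤ i → Van f i ((Sga67.TwistOver.tw n Y (-(i : ℤ))).obj F)

/-- For regular `F`, `R^i f_*(F(m-i)) = 0` for all `m ≥ 0` and `i ≥ 1`. -/
theorem van_of_reg {S : Scheme.{u}} {f : CohB1.ProjSpaceOver n Y ⟶ S}
    {F : (CohB1.ProjSpaceOver n Y).Modules} (hF : Reg f F) (m : ℕ) (i : ℕ) (hi : 1 ≤ i) (c : ℤ)
    (hc : c = m - i) : Van f i ((Sga67.TwistOver.tw n Y c).obj F) := by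
  subst hc
  induction m generalizing i with
  | zero => simpa using hF i hi
  | succ m ih =>
    refine castelnuovo_rel f F _ i fun s => ?_
    have h1 := ih (i + s) (by omega)
    have e : ((m : ℤ) - ((i + s : ℕ) : ℤ)) = ((m + 1 : ℕ) : ℤ) - i - 1 - s := by push_cast; ring
    rwa [e] at h1

/-- Higher direct images of nonnegative twists of regular sheaves vanish. -/
theorem van_twist_of_reg {S : Scheme.{u}} {f : CohB1.ProjSpaceOver n Y ⟶ S}
    {F : (CohB1.ProjSpaceOver n Y).Modules} (hF : Reg f F) (m : ℕ) (i : ℕ) (hi : 1 ≤ i) :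
    Van f i ((Sga67.TwistOver.tw n Y (m : ℤ)).obj F) :=
  van_of_reg hF (m + i) i hi _ (by push_cast; ring)

/-- Higher direct images of regular sheaves vanish. -/
theorem van_self_of_reg {S : Scheme.{u}} {f : CohB1.ProjSpaceOver n Y ⟶ S}
    {F : (CohB1.ProjSpaceOver n Y).Modules} (hF : Reg f F) (i : ℕ) (hi : 1 ≤ i) : Van f i F := by
  obtain ⟨e⟩ := Sga67.TwistOver.nonempty_tw_zero n Y F
  exact van_of_iso f i e (van_of_reg hF i i hi 0 (by simp))

/-- Nonnegative twists of regular sheaves are regular. -/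
theorem reg_twist {S : Scheme.{u}} {f : CohB1.ProjSpaceOver n Y ⟶ S}
    {F : (CohB1.ProjSpaceOver n Y).Modules} (hF : Reg f F) (m : ℕ) :
    Reg f ((Sga67.TwistOver.tw n Y (m : ℤ)).obj F) := by
  intro i hi
  obtain ⟨e⟩ := Sga67.TwistOver.nonempty_tw_tw n Y (-(i : ℤ)) (m : ℤ) F
  exact van_of_iso f i e.symm (van_of_reg hF m i hi _ (by ring))

end Proj

end Groth.Agent.Krr.H455.RelCast
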